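import Cfsg.Agent.NotResT.Comp_m3
import Cfsg.Agent.ResEven.Congr_m3
import Cfsg.Agent.GTwoRows.Base
import Cfsg.Agent.SevenLow.Base
import Cfsg.Agent.SporadicB.J1.Main
import Cfsg.Agent.UGT.EndJ1.Data
import Cfsg.Agent.Walter.LastCase_mg_m3
import Cfsg.Agent.Prune
set_option linter.all false
prune_inst 0x7f00000000000000000000000000000000000000000000000000000000000000000000000000000000000000000000000000000000000000000000000000000000000000000000000000000000000000003fffffffffffffffffffffffffffbeffbdffffffff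
open scoped Cfsg.Agent.FastGrp

/-!
# `J₁` is not of restricted even type (helper4)

`J₁` has 2-rank 3 and an involution centralizer `2 × L₂(5)`.  The hypothesis `Walter.Main.Step` is
`Walter.StepAll.step`.
-/

set_option autoImplicit false

namespace Cfsg.Agent.NotResT.JOne

open Subgroup Cfsg Cfsg.Agent.SevenCases Cfsg.Agent.SigTab

universe u

theorem simple : IsSimpleGroup Spor.J1 := SporadicB.J1.Main.isJ1.1

theorem card : Nat.card Spor.J1 = 175560 := SporadicB.J1.Main.isJ1.2

theorem finite : Finite Spor.J1 := Nat.finite_of_card_ne_zero (by rw [card]; norm_num)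

theorem not_comm : ¬ IsMulCommutative Spor.J1 := by
  intro h
  have hs := simple
  let _ : CommGroup Spor.J1 := { (inferInstance : Group Spor.J1) with mul_comm := h.is_comm.comm }
  have hfin : Finite Spor.J1 := finite
  have hp : (Nat.card Spor.J1).Prime := IsSimpleGroup.prime_card
  rw [card] at hp
  norm_num at hp

/-- the involution centralizers `2 × L₂(q)` -/
theorem isJR (hstep : Walter.Main.Step.{0}) : Walter.Types.IsJR Spor.J1 := by
  have hfin := finite
  have hs := simple
  have hsyl := UGT.EndJ1.Data.bal.syl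
  obtain ⟨S⟩ : Nonempty (Sylow 2 Spor.J1) := inferInstance
  have hab : ∀ a ∈ (S : Subgroup Spor.J1), ∀ b ∈ (S : Subgroup Spor.J1), a * b = b * a := by
    intro a ha b hb
    have h1 := (hsyl S).2 a ha
    have h2 := (hsyl S).2 b hb
    have h3 := (hsyl S).2 _ (mul_mem ha hb)
    calc a * b = (a * b)⁻¹ := (inv_eq_of_mul_eq_one_right h3).symm
      _ = b⁻¹ * a⁻¹ := mul_inv_rev _ _
      _ = b * a := by rw [inv_eq_of_mul_eq_one_right h1, inv_eq_of_mul_eq_one_right h2]
  rcases Walter.Main.wType_of_step hstep Spor.J1 hs not_comm S hab with h | h | h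
  · exfalso
    obtain ⟨F, _, _, n, hn, hF, ⟨e⟩⟩ := h
    have h1 := Walter.TypeSylow.card_sylow_even hF e S
    rw [(hsyl S).1] at h1
    have h2 : n = 3 := Nat.pow_right_injective (le_refl 2) (h1.symm.trans (by norm_num))
    have h3 := ClassicalGeometry.PSL2Basic.card_PSL2_even F (by rw [hF, h2]; decide)
    rw [← Nat.card_congr e.toEquiv, card, hF, h2] at h3
    norm_num at h3
  · exfalso
    obtain ⟨F, _, _, hF, hq, ⟨e⟩⟩ := h
    have h1 := Walter.TypeSylow.card_sylow_odd hF e S
    rw [(hsyl S).1] at h1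
    omega
  · exact h

/-- **`J₁` is not of restricted even type.** -/
theorem not_res (hstep : Walter.Main.Step.{0}) : ¬ IsOfRestrictedEvenType Spor.J1 := by
  have hfin := finite
  obtain ⟨D⟩ := UGT.EndJ1.Data.exists_dat
  obtain ⟨-, F, _, _, hmod, hq, hc⟩ := isJR hstep
  have ht : orderOf D.t = 2 := orderOf_eq_prime (by rw [pow_two]; exact D.tt) D.t1
  obtain ⟨e⟩ := hc D.t ht
  have hodd : Odd (Fintype.card F) := by rw [Nat.odd_iff]; omega
  have h3 := ClassicalGeometry.PSL2Basic.card_PSL2_odd F hodd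
  have h4 : Nat.card ↥(centralizer ({D.t} : Set Spor.J1)) = 2 * Nat.card (Matrix.ProjectiveSpecialLinearGroup (Fin 2) F) := by
    rw [Nat.card_congr e.toEquiv, Nat.card_prod]
    congr 1
    rw [Nat.card_congr (Multiplicative.toAdd (α := ZMod 2)), Nat.card_zmod]
  rw [D.card_C] at h4
  have h5 : Fintype.card F * (Fintype.card F ^ 2 - 1) = 120 := by rw [← h3]; omega
  have h6 : Fintype.card F = 5 := by
    by_contra hne
    have h7 : 6 ≤ Fintype.card F := by omega
    have h8 : 6 * (6 ^ 2 - 1) ≤ Fintype.card F * (Fintype.card F ^ 2 - 1) :=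
      Nat.mul_le_mul h7 (Nat.sub_le_sub_right (Nat.pow_le_pow_left h7 2) 1)
    omega
  have h3F : 3 < Fintype.card F := by omega
  have hs := TwoFusion.SLTwoFacts.isSimpleGroup_psl (F := F) h3F
  obtain ⟨K, hK, ⟨f⟩⟩ := Comp.exists_comp_prod (CTwoTab.isQuasisimple_of_simple (GTwoRows.not_comm_psl h3F)) e
  refine Comp.not_res_of_psl ht hK (F := F) ?_ f ?_
  · rw [h6]
    exact Or.inl ⟨by norm_num, Or.inl ⟨2, by norm_num, by norm_num⟩⟩
  · refine SevenLow.prankLE_of_not_dvd ?_
    rw [card]
    norm_num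

theorem j1 (hstep : Walter.Main.Step.{0}) : NotRes.{u} (fun X _ => Spor.IsoJ1 X) := by
  rintro G _ _ ⟨e⟩ hR
  exact not_res hstep (ResEven.Congr.restricted_of e hR)

end Cfsg.Agent.NotResT.JOne
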