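import Cfsg.Agent.GenType.Alt
import Cfsg.Agent.NotResT.Comp_m3
import Cfsg.Agent.ResEven.Congr_m3
import Cfsg.Agent.S0253
import Cfsg.Agent.S0254
import Cfsg.Agent.GTwoRows.Base
import Cfsg.Agent.QTKE.PslTwo_m3
import Cfsg.Agent.FastGrp
import Cfsg.Agent.Prune
set_option linter.all false
prune_inst 0x7f00000000000000000000000000000000000000000000000000000000000000000000000000000000000000000000000000000000000000000000000000000000000000000000000000000000000000003fffffffffffffffffffffffffffbeffbdffffffff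
open scoped Cfsg.Agent.FastGrp

-- merged: Cfsg.Agent.NotResT.AltSub
section

/-!
# The subgroup `A_{n-4}` of `A_n` (helper4)

`Kf n` : the pointwise stabilizer of `0, 1, 2, 3` in `A_n`.  For an involution `x` moving exactly these points
`Kf n` is normal in `C(x)`.
-/

set_option autoImplicit false

namespace Cfsg.Agent.NotResT.AltSub

open Subgroup Cfsg Equiv Equiv.Perm Cfsg.Agent.GenType

/-- the pointwise stabilizer of `0, 1, 2, 3` -/
def Kf (n : ℕ) : Subgroup (alternatingGroup (Fin n)) where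
  carrier := {g | ∀ i : Fin n, i.val < 4 → (g : Perm (Fin n)) i = i}
  mul_mem' {a b} ha hb := fun i hi => by
    change (a : Perm (Fin n)) ((b : Perm (Fin n)) i) = i
    rw [hb i hi, ha i hi]
  one_mem' := fun i _ => rfl
  inv_mem' {a} ha := fun i hi => by
    change (a : Perm (Fin n))⁻¹ i = i
    rw [Perm.inv_eq_iff_eq, ha i hi]

theorem mem_Kf {n : ℕ} {g : alternatingGroup (Fin n)} : g ∈ Kf n ↔ ∀ i : Fin n, i.val < 4 → (g : Perm (Fin n)) i = i :=
  Iff.rfl

section

variable {n : ℕ} {x : alternatingGroup (Fin n)} (hx : ∀ i : Fin n, (x : Perm (Fin n)) i ≠ i ↔ i.val < 4)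

include hx

theorem Kf_le : Kf n ≤ centralizer ({x} : Set (alternatingGroup (Fin n))) := by
  intro g hg
  rw [mem_centralizer_singleton_iff]
  apply Subtype.ext
  ext i
  change (((g : Perm (Fin n)) ((x : Perm (Fin n)) i) : Fin n) : ℕ) = ((x : Perm (Fin n)) ((g : Perm (Fin n)) i) : Fin n)
  congr 1
  by_cases hi : i.val < 4
  · have h1 : ((x : Perm (Fin n)) i).val < 4 := by
      rw [← hx]
      intro h
      exact (hx i).2 hi ((x : Perm (Fin n)).injective h)
    rw [hg _ h1, hg i hi]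
  · have h1 : (x : Perm (Fin n)) i = i := by
      by_contra h
      exact hi ((hx i).1 h)
    have h2 : ¬ ((g : Perm (Fin n)) i).val < 4 := by
      intro h
      have h3 := hg _ h
      have h4 : (g : Perm (Fin n)) i = i := (g : Perm (Fin n)).injective h3
      rw [h4] at h
      exact hi h
    have h3 : (x : Perm (Fin n)) ((g : Perm (Fin n)) i) = (g : Perm (Fin n)) i := by
      by_contra h
      exact h2 ((hx _).1 h)
    rw [h1, h3]

theorem mem_ker_iff (c : ↥(centralizer ({x} : Set (alternatingGroup (Fin n))))) :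
    c ∈ (rho x).ker ↔ (c : alternatingGroup (Fin n)) ∈ Kf n := by
  rw [MonoidHom.mem_ker, mem_Kf]
  constructor
  · intro h i hi
    exact congrArg (fun s : Perm (Mv x) => ((s ⟨i, (hx i).2 hi⟩ : Mv x) : Fin n)) h
  · intro h
    ext ⟨i, hi⟩
    exact congrArg Fin.val (h i ((hx i).1 hi))

theorem map_ker : (rho x).ker.map (centralizer ({x} : Set (alternatingGroup (Fin n)))).subtype = Kf n := by
  ext g
  constructor
  · rintro ⟨c, hc, rfl⟩
    exact (mem_ker_iff hx c).1 hc
  · intro hg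
    exact ⟨⟨g, Kf_le hx hg⟩, (mem_ker_iff hx _).2 hg, rfl⟩

theorem conj_mem {g k : alternatingGroup (Fin n)} (hg : g ∈ centralizer ({x} : Set (alternatingGroup (Fin n))))
    (hk : k ∈ Kf n) : g * k * g⁻¹ ∈ Kf n := by
  have h1 := (mem_ker_iff hx ⟨k, Kf_le hx hk⟩).2 hk
  exact (mem_ker_iff hx _).1 ((MonoidHom.normal_ker (rho x)).conj_mem _ h1 ⟨g, hg⟩)

theorem card_Mv : Fintype.card (Mv x) = Fintype.card {i : Fin n // i.val < 4} :=
  Fintype.card_congr (Equiv.subtypeEquivRight hx)

theorem card_Fx (hn : 4 ≤ n) : Fintype.card (Fx x) = n - 4 := by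
  have h1 := card_split x
  rw [card_Mv hx, Fintype.card_fin] at h1
  have h2 : Fintype.card {i : Fin n // i.val < 4} = 4 := by
    rw [← Fintype.card_congr (Fin.castLEquiv hn), Fintype.card_fin]
  omega

theorem equiv_alt (hn : 4 ≤ n) : Nonempty (↥(Kf n) ≃* alternatingGroup (Fin (n - 4))) := by
  let e1 : ↥(rho x).ker ≃* ↥((rho x).ker.map (centralizer ({x} : Set (alternatingGroup (Fin n)))).subtype) :=
    (rho x).ker.equivMapOfInjective _ (Subgroup.subtype_injective _)
  let e2 := MulEquiv.subgroupCongr (map_ker hx)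
  let e3 : alternatingGroup (Fx x) ≃* alternatingGroup (Fin (n - 4)) :=
    (Fintype.equivFinOfCardEq (card_Fx hx hn)).altCongrHom
  exact ⟨(e2.symm.trans e1.symm).trans ((kerEquiv x).symm.trans e3)⟩

theorem isComponentOf (hn : 9 ≤ n) : IsComponentOf (Kf n) (centralizer ({x} : Set (alternatingGroup (Fin n)))) := by
  obtain ⟨e⟩ := equiv_alt hx (by omega)
  have h5 : 5 ≤ Nat.card (Fin (n - 4)) := by rw [Nat.card_eq_fintype_card, Fintype.card_fin]; omega
  have hs : IsSimpleGroup (alternatingGroup (Fin (n - 4))) := alternatingGroup.isSimpleGroup h5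
  have hs' : IsSimpleGroup ↥(Kf n) := e.isSimpleGroup
  have hc : center (alternatingGroup (Fin (n - 4))) = ⊥ := alternatingGroup.center_eq_bot (by
    rw [Nat.card_eq_fintype_card, Fintype.card_fin]; omega)
  have hz : center ↥(Kf n) = ⊥ := CTwoTab.center_eq_bot_congr e.symm hc
  have hna : ¬ IsMulCommutative ↥(Kf n) := by
    intro h
    have h1 : center ↥(Kf n) = ⊤ := by
      rw [eq_top_iff]
      intro a _
      exact mem_center_iff.2 fun b => h.is_comm.comm b a
    rw [hz] at h1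
    exact bot_ne_top h1
  exact OddTab.isComponentOf_of_normalized (Kf_le hx) (CTwoTab.isQuasisimple_of_simple hna)
    fun g hg k hk => conj_mem hx hg hk

end

end Cfsg.Agent.NotResT.AltSub

end

-- merged: Cfsg.Agent.NotResT.AltNine
section

/-!
# `A₉`, `A₁₀` are not of restricted even type; the subgroup `A₇` of `A₁₁` (helper4)
-/

set_option autoImplicit false

namespace Cfsg.Agent.NotResT.AltNine

open Subgroup Cfsg Equiv Equiv.Perm Cfsg.Agent.GenType Cfsg.Agent.NotResT.AltSub
open Cfsg.Agent.SevenCases Cfsg.Agent.SigTab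

universe u

theorem apply_inv {n : ℕ} (s : Perm (Fin n)) (i : Fin n) : s (s⁻¹ i) = i := s.apply_symm_apply i

/-- some permutations of `Fin n` -/
structure Dat (n : ℕ) where
  x : Perm (Fin n)
  u : Perm (Fin n)
  g : Perm (Fin n)
  sx : sign x = 1
  su : sign u = 1
  sg : sign g = 1
  xx : x * x = 1
  uu : u * u = 1
  xu : x * u = u * x
  x1 : x ≠ 1
  u1 : u ≠ 1
  hxu : x ≠ u
  mx : ∀ i : Fin n, x i ≠ i ↔ i.val < 4
  mu : ∀ i : Fin n, u i ≠ i ↔ i.val < 4
  g2 : g * g ≠ 1
  g4 : (g * g) * (g * g) = 1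
  mg : ∀ i : Fin n, (g i).val < 4 ↔ i.val < 4

theorem dat7 : Nonempty (Dat 7) :=
  ⟨⟨swap 0 1 * swap 2 3, swap 0 2 * swap 1 3, swap 0 1 * swap 1 2 * swap 2 3 * swap 4 5, by decide, by decide, by decide,
    by decide, by decide, by decide, by decide, by decide, by decide, by decide, by decide, by decide, by decide,
    by decide⟩⟩

theorem dat9 : Nonempty (Dat 9) :=
  ⟨⟨swap 0 1 * swap 2 3, swap 0 2 * swap 1 3, swap 0 1 * swap 1 2 * swap 2 3 * swap 4 5, by decide, by decide, by decide,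
    by decide, by decide, by decide, by decide, by decide, by decide, by decide, by decide, by decide, by decide,
    by decide⟩⟩

theorem dat10 : Nonempty (Dat 10) :=
  ⟨⟨swap 0 1 * swap 2 3, swap 0 2 * swap 1 3, swap 0 1 * swap 1 2 * swap 2 3 * swap 4 5, by decide, by decide, by decide,
    by decide, by decide, by decide, by decide, by decide, by decide, by decide, by decide, by decide, by decide,
    by decide⟩⟩

theorem dat11 : Nonempty (Dat 11) :=
  ⟨⟨swap 0 1 * swap 2 3, swap 0 2 * swap 1 3, swap 0 1 * swap 1 2 * swap 2 3 * swap 4 5, by decide, by decide, by decide,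
    by decide, by decide, by decide, by decide, by decide, by decide, by decide, by decide, by decide, by decide,
    by decide⟩⟩

theorem exists_dat {n : ℕ} (h : n = 7 ∨ n = 9 ∨ n = 10 ∨ n = 11) : Nonempty (Dat n) := by
  rcases h with rfl | rfl | rfl | rfl
  · exact dat7
  · exact dat9
  · exact dat10
  · exact dat11

/-- an element of `A_{n-4}` moving `i` and fixing `j` -/
theorem exists_k {n : ℕ} (hn : 9 ≤ n) (i j : Fin n) (hi : 4 ≤ i.val) (hij : j ≠ i) :
    ∃ k ∈ Kf n, (k : Perm (Fin n)) i ≠ i ∧ (k : Perm (Fin n)) j = j := by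
  have h1 : ∃ a b : ℕ, 4 ≤ a ∧ a ≤ 8 ∧ 4 ≤ b ∧ b ≤ 8 ∧ a ≠ b ∧ a ≠ i.val ∧ b ≠ i.val ∧ a ≠ j.val ∧ b ≠ j.val := by
    by_cases h4 : i.val = 4 ∨ j.val = 4 <;> by_cases h5 : i.val = 5 ∨ j.val = 5 <;>
      by_cases h6 : i.val = 6 ∨ j.val = 6 <;> first
        | exact ⟨4, 5, by omega⟩
        | exact ⟨4, 6, by omega⟩
        | exact ⟨5, 6, by omega⟩
        | exact ⟨4, 7, by omega⟩
        | exact ⟨4, 8, by omega⟩
        | exact ⟨5, 7, by omega⟩
        | exact ⟨5, 8, by omega⟩
        | exact ⟨6, 7, by omega⟩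
  obtain ⟨a, b, ha, ha8, hb, hb8, hab, hai, hbi, haj, hbj⟩ := h1
  let A : Fin n := ⟨a, by omega⟩
  let B : Fin n := ⟨b, by omega⟩
  have hAi : A ≠ i := fun h => hai (congrArg Fin.val h)
  have hBi : B ≠ i := fun h => hbi (congrArg Fin.val h)
  have hAj : A ≠ j := fun h => haj (congrArg Fin.val h)
  have hBj : B ≠ j := fun h => hbj (congrArg Fin.val h)
  have hAB : A ≠ B := fun h => hab (congrArg Fin.val h)
  refine ⟨⟨swap i A * swap A B, ?_⟩, ?_, ?_, ?_⟩
  · rw [mem_alternatingGroup, map_mul, sign_swap hAi.symm, sign_swap hAB]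
    rfl
  · intro t ht
    have htA : t ≠ A := by rintro rfl; exact absurd ht (by simp [A]; omega)
    have htB : t ≠ B := by rintro rfl; exact absurd ht (by simp [B]; omega)
    have hti : t ≠ i := by rintro rfl; omega
    change swap i A (swap A B t) = t
    rw [swap_apply_of_ne_of_ne htA htB, swap_apply_of_ne_of_ne hti htA]
  · change swap i A (swap A B i) ≠ i
    rw [swap_apply_of_ne_of_ne hAi.symm hBi.symm, swap_apply_left]
    exact hAi
  · change swap i A (swap A B j) = j
    rw [swap_apply_of_ne_of_ne hAj.symm hBj.symm, swap_apply_of_ne_of_ne hij hAj.symm]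

/-- the elements centralizing `A_{n-4}` fix the points `≥ 4` -/
theorem fix_of_cent {n : ℕ} (hn : 9 ≤ n) {y : alternatingGroup (Fin n)}
    (hy : y ∈ centralizer ((Kf n : Subgroup (alternatingGroup (Fin n))) : Set (alternatingGroup (Fin n)))) (i : Fin n)
    (hi : 4 ≤ i.val) : (y : Perm (Fin n)) i = i := by
  by_contra hne
  obtain ⟨k, hk, h1, h2⟩ := exists_k hn i ((y : Perm (Fin n)) i) hi hne
  have h3 := mem_centralizer_iff.1 hy k hk
  have h4 : (k : Perm (Fin n)) ((y : Perm (Fin n)) i) = (y : Perm (Fin n)) ((k : Perm (Fin n)) i) :=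
    congrArg (fun s : alternatingGroup (Fin n) => (s : Perm (Fin n)) i) h3
  rw [h2] at h4
  exact h1 ((y : Perm (Fin n)).injective h4).symm

theorem moved_of_cent {n : ℕ} (hn : 9 ≤ n) {y : alternatingGroup (Fin n)}
    (hy : y ∈ centralizer ((Kf n : Subgroup (alternatingGroup (Fin n))) : Set (alternatingGroup (Fin n))))
    (ho : orderOf y = 2) (i : Fin n) : (y : Perm (Fin n)) i ≠ i ↔ i.val < 4 := by
  have h1 : ∀ i : Fin n, (y : Perm (Fin n)) i ≠ i → i.val < 4 := by
    intro i hi
    by_contra h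
    exact hi (fix_of_cent hn hy i (by omega))
  obtain ⟨h2, h3⟩ := card_moved y ho
  have h4 : 4 ≤ Fintype.card (Mv y) := Nat.le_of_dvd h3 h2
  have h5 : Fintype.card {i : Fin n // i.val < 4} = 4 := by
    rw [← Fintype.card_congr (Fin.castLEquiv (by omega : 4 ≤ n)), Fintype.card_fin]
  refine ⟨h1 i, fun hi => ?_⟩
  let f : Mv y → {i : Fin n // i.val < 4} := fun z => ⟨z.1, h1 z.1 z.2⟩
  have hf : Function.Injective f := fun a b hab => Subtype.ext (congrArg (fun z : {i : Fin n // i.val < 4} => z.1) hab)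
  have h6 : Function.Surjective f :=
    ((Fintype.bijective_iff_injective_and_card f).2 ⟨hf, le_antisymm (Fintype.card_le_of_injective f hf) (by omega)⟩).2
  obtain ⟨z, hz⟩ := h6 ⟨i, hi⟩
  have h7 : z.1 = i := congrArg (fun z : {i : Fin n // i.val < 4} => z.1) hz
  rw [← h7]
  exact z.2

section

variable {n : ℕ} (D : Dat n)

/-- the involution -/
def X : alternatingGroup (Fin n) := ⟨D.x, mem_alternatingGroup.2 D.sx⟩

/-- another involution -/
def U : alternatingGroup (Fin n) := ⟨D.u, mem_alternatingGroup.2 D.su⟩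

/-- the element of order 4 -/
def Gg : alternatingGroup (Fin n) := ⟨D.g, mem_alternatingGroup.2 D.sg⟩

theorem order_X : orderOf (X D) = 2 :=
  orderOf_eq_prime (by rw [pow_two]; exact Subtype.ext D.xx) fun h => D.x1 (congrArg Subtype.val h)

include D in
theorem two_dvd (hn : 9 ≤ n) : 2 ∣ Nat.card ↥(Kf n) := by
  obtain ⟨e⟩ := equiv_alt (x := X D) D.mx (by omega)
  rw [Nat.card_congr e.toEquiv]
  have : Nontrivial (Fin (n - 4)) := by
    rw [← Fintype.one_lt_card_iff_nontrivial, Fintype.card_fin]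
    omega
  have h6 := two_mul_nat_card_alternatingGroup (α := Fin (n - 4))
  rw [Nat.card_perm, Nat.card_fin] at h6
  have h7 : 4 ∣ (n - 4).factorial := by
    have h8 : (4 : ℕ).factorial ∣ (n - 4).factorial := Nat.factorial_dvd_factorial (by omega)
    exact (by decide : (4 : ℕ) ∣ (4 : ℕ).factorial).trans h8
  omega

theorem terminal (hn : 9 ≤ n) : IsTerminalPair 2 (X D) (Kf n) :=
  ⟨order_X D, isComponentOf D.mx hn, two_dvd D hn, fun _ hy ho =>
    isComponentOf (fun i => moved_of_cent hn hy ho i) hn⟩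

theorem Gg_mem : Gg D ∈ normalizer ((Kf n : Subgroup (alternatingGroup (Fin n))) : Set (alternatingGroup (Fin n))) := by
  have key : ∀ h k : alternatingGroup (Fin n), (∀ i : Fin n, ((h : Perm (Fin n)) i).val < 4 ↔ i.val < 4) → k ∈ Kf n →
      h * k * h⁻¹ ∈ Kf n := by
    intro h k hh hk i hi
    have h1 : (((h : Perm (Fin n))⁻¹) i).val < 4 := by
      rw [← hh, apply_inv]
      exact hi
    change (h : Perm (Fin n)) ((k : Perm (Fin n)) (((h : Perm (Fin n))⁻¹) i)) = i
    rw [hk _ h1, apply_inv]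
  rw [mem_normalizer_iff]
  intro k
  constructor
  · exact key (Gg D) k D.mg
  · intro h
    have h1 := key (Gg D)⁻¹ _ (fun i => by
      have h2 := D.mg ((D.g)⁻¹ i)
      rw [apply_inv] at h2
      exact h2.symm) h
    have h3 : (Gg D)⁻¹ * (Gg D * k * (Gg D)⁻¹) * ((Gg D)⁻¹)⁻¹ = k := by group
    rwa [h3] at h1

include D in
/-- the Sylow 2-subgroups of `N(A_{n-4})` are not elementary abelian -/
theorem not_elab (h : ∀ T : Sylow 2 ↥(normalizer ((Kf n : Subgroup (alternatingGroup (Fin n))) : Set (alternatingGroup (Fin n)))),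
    IsElementaryAbelian 2 (T : Subgroup ↥(normalizer ((Kf n : Subgroup (alternatingGroup (Fin n))) : Set (alternatingGroup (Fin n)))))) : False := by
  let g' : ↥(normalizer ((Kf n : Subgroup (alternatingGroup (Fin n))) : Set (alternatingGroup (Fin n)))) := ⟨Gg D, Gg_mem D⟩
  have hp : IsPGroup 2 ↥(zpowers g') := by
    rintro ⟨y, hy⟩
    obtain ⟨k, rfl⟩ := mem_zpowers_iff.1 hy
    refine ⟨2, Subtype.ext ?_⟩
    change (g' ^ k) ^ 2 ^ 2 = 1
    have h4 : g' ^ 4 = 1 := by
      apply Subtype.ext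
      apply Subtype.ext
      change D.g ^ 4 = 1
      rw [show (4 : ℕ) = 2 + 2 from rfl, pow_add, pow_two]
      exact D.g4
    rw [← zpow_natCast, ← zpow_mul, mul_comm, zpow_mul]
    have h5 : g' ^ ((2 ^ 2 : ℕ) : ℤ) = 1 := by
      rw [zpow_natCast]
      exact h4
    rw [h5, one_zpow]
  obtain ⟨T, hT⟩ := hp.exists_le_sylow
  have h1 : g' ∈ (T : Subgroup _) := hT (mem_zpowers g')
  have h2 := (h T).2 g' h1
  apply D.g2
  have h3 := congrArg Subtype.val h2
  have h4 := congrArg Subtype.val h3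
  change D.g ^ 2 = 1 at h4
  rwa [pow_two] at h4

include D in
/-- `C(A_{n-4})` contains a four-group -/
theorem not_rank_one (hr : PRankLE 2 1 ↥(centralizer ((Kf n : Subgroup (alternatingGroup (Fin n))) : Set (alternatingGroup (Fin n))))) :
    False := by
  have hcent : ∀ y : alternatingGroup (Fin n), (∀ i : Fin n, (y : Perm (Fin n)) i ≠ i ↔ i.val < 4) →
      y ∈ centralizer ((Kf n : Subgroup (alternatingGroup (Fin n))) : Set (alternatingGroup (Fin n))) := by
    intro y hy
    rw [mem_centralizer_iff]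
    intro k hk
    exact mem_centralizer_singleton_iff.1 (Kf_le hy hk)
  let a : Fin 2 → ↥(centralizer ((Kf n : Subgroup (alternatingGroup (Fin n))) : Set (alternatingGroup (Fin n)))) :=
    ![⟨X D, hcent _ D.mx⟩, ⟨U D, hcent _ D.mu⟩]
  have hx2 : a 0 * a 0 = 1 := Subtype.ext (Subtype.ext D.xx)
  have hu2 : a 1 * a 1 = 1 := Subtype.ext (Subtype.ext D.uu)
  have hxu : a 0 * a 1 = a 1 * a 0 := Subtype.ext (Subtype.ext D.xu)
  have h0 : a 0 ≠ 1 := fun h => D.x1 (congrArg Subtype.val (congrArg Subtype.val h))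
  have h1 : a 1 ≠ 1 := fun h => D.u1 (congrArg Subtype.val (congrArg Subtype.val h))
  have h01 : a 0 * a 1 ≠ 1 := by
    intro h
    have h3 : a 0 = a 1 := by
      calc a 0 = a 0 * (a 1 * a 1) := by rw [hu2, mul_one]
        _ = a 1 := by rw [← mul_assoc, h, one_mul]
    exact D.hxu (congrArg Subtype.val (congrArg Subtype.val h3))
  have h2 : PRankAtLeast 2 2 ↥(centralizer ((Kf n : Subgroup (alternatingGroup (Fin n))) : Set (alternatingGroup (Fin n)))) := by
    refine ResEven.Base.rank_of_fun a ?_ ?_ ?_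
    · intro i j
      fin_cases i <;> fin_cases j
      · rfl
      · exact hxu
      · exact hxu.symm
      · rfl
    · intro i
      fin_cases i
      · exact hx2
      · exact hu2
    · intro c hc
      rw [List.ofFn_succ, List.ofFn_succ, List.ofFn_zero, List.prod_cons, List.prod_cons, List.prod_nil, mul_one] at hc
      change (if c 0 then a 0 else 1) * (if c 1 then a 1 else 1) = 1 at hc
      rcases hc0 : c 0 with _ | _ <;> rcases hc1 : c 1 with _ | _ <;> rw [hc0, hc1] at hc
      · ext i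
        fin_cases i
        · exact hc0
        · exact hc1
      · simp only [Bool.false_eq_true, if_false, if_true, one_mul] at hc
        exact (h1 hc).elim
      · simp only [Bool.false_eq_true, if_false, if_true, mul_one] at hc
        exact (h0 hc).elim
      · simp only [if_true] at hc
        exact (h01 hc).elim
  exact TwoRank.not_atLeast one_lt_two hr h2

end

theorem nine : ¬ IsOfRestrictedEvenType (alternatingGroup (Fin 9)) := by
  intro hR
  obtain ⟨D⟩ := dat9
  obtain ⟨e⟩ := equiv_alt (x := X D) D.mx (by norm_num)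
  have : Fact (Nat.Prime 5) := ⟨by norm_num⟩
  obtain ⟨f⟩ := S0253.result (F := ZMod 5) (ZMod.card 5)
  obtain ⟨-, -, h | h⟩ := hR.2.2.1 (X D) (Kf 9) (terminal D le_rfl) (ZMod 5)
    (by rw [ZMod.card]; exact Or.inl ⟨by norm_num, Or.inl ⟨2, by norm_num, by norm_num⟩⟩) ⟨e.trans f.symm⟩
  · exact not_elab D fun T => (h.2 T).1
  · have h5 := h.1
    rw [ZMod.card] at h5
    omega

theorem ten : ¬ IsOfRestrictedEvenType (alternatingGroup (Fin 10)) := by
  intro hR
  obtain ⟨D⟩ := dat10
  obtain ⟨e⟩ := equiv_alt (x := X D) D.mx (by norm_num)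
  have : Fact (Nat.Prime 3) := ⟨by norm_num⟩
  have hfin : Fintype (GaloisField 3 2) := Fintype.ofFinite _
  have hF : Fintype.card (GaloisField 3 2) = 9 := by
    rw [← Nat.card_eq_fintype_card, GaloisField.card 3 2 (by norm_num)]
    norm_num
  obtain ⟨f⟩ := S0254.result (F := GaloisField 3 2) hF
  obtain ⟨-, -, h | h⟩ := hR.2.2.1 (X D) (Kf 10) (terminal D (by norm_num)) (GaloisField 3 2)
    (by rw [hF]; exact Or.inr rfl) ⟨e.trans f.symm⟩
  · have h5 := h.1
    rw [hF] at h5
    omega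
  · exact not_rank_one D h.2.1

/-- `A₁₁` is not of even type, given that `A₇` is not a `C₂`-group -/
theorem eleven (h7 : ∀ (K : Type) [Group K] [Finite K], Nonempty (K ≃* alternatingGroup (Fin 7)) → ¬ InC 2 K) :
    ¬ IsOfEvenType (alternatingGroup (Fin 11)) := by
  obtain ⟨D⟩ := dat11
  obtain ⟨e⟩ := equiv_alt (x := X D) D.mx (by norm_num)
  have hc : center (alternatingGroup (Fin (11 - 4))) = ⊥ := alternatingGroup.center_eq_bot (by
    rw [Nat.card_eq_fintype_card, Fintype.card_fin]; omega)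
  have hz : center ↥(Kf 11) = ⊥ := CTwoTab.center_eq_bot_congr e.symm hc
  refine Comp.not_even (order_X D) (isComponentOf D.mx (by norm_num)) (two_dvd D (by norm_num)) ?_ (h7 _ ⟨e⟩)
  rw [hz]
  exact IsPGroup.of_card (n := 0) (by rw [card_bot, pow_zero])

/-- the row `alt9` -/
theorem alt9 (h7 : ∀ (K : Type) [Group K] [Finite K], Nonempty (K ≃* alternatingGroup (Fin 7)) → ¬ InC 2 K) :
    NotRes.{u} (fun X _ => Alt (fun n => 9 ≤ n ∧ n ≤ 11) X) := by
  rintro G _ _ ⟨n, ⟨h9, h11⟩, ⟨e⟩⟩ hR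
  have hR' := ResEven.Congr.restricted_of e hR
  have hn : n = 9 ∨ n = 10 ∨ n = 11 := by omega
  rcases hn with rfl | rfl | rfl
  · exact nine hR'
  · exact ten hR'
  · exact eleven h7 hR'.1

end Cfsg.Agent.NotResT.AltNine

end

-- merged: Cfsg.Agent.NotResT.NotC
section

/-!
# Groups which are not `C₂`-groups (helper4)

`psl_not_cp`, `sl_not_inC`, `psl_not_inC` : `L₂(q)`, `SL₂(q)`, `q` odd, `q ∉ FM9`;
`alt_not_cp` : `A₇`, `A₉`, `A₁₀`, `A₁₁`;
`bNotC` : the `B₂`-groups are not `C₂`-groups.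

Hypotheses: `ChevCharTwo` (`EvenType.ChevTwo.charTwo`), `ListedCard` (`EvenType.CTwoCard`).
-/

set_option autoImplicit false

namespace Cfsg.Agent.NotResT.NotC

open Subgroup Cfsg Equiv Equiv.Perm Cfsg.Agent.GenType Cfsg.Agent.NotResT.AltSub
open Cfsg.Agent.SevenCases Cfsg.Agent.SigTab

universe u

/-- the groups of Lie type in characteristic 2 are of characteristic 2 type -/
def ChevCharTwo : Prop :=
  ∀ (G : Type) [Group G] [Finite G] [IsSimpleGroup G], ¬ IsMulCommutative G → IsChevSimple 2 G →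
    IsCharacteristicTwoType G

/-- the orders of the groups on the `C₂` list, other than the `L₂(q)` -/
def CList : List ℕ :=
  [5616, 6065280, 4245696, 3265920, 7920, 95040, 443520, 10200960, 244823040, 604800, 50232960,
    86775571046077562880, 44352000, 448345497600, 145926144000, 4157776806543360000, 42305421312000, 64561751654400,
    4089470473293004800, 1255205709190661721292800, 90745943887872000, 4154781481226426191177580544000000,
    808017424794512875886459904961710757005754368000000000]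

/-- the orders of the groups on the `C₂` list -/
def ListedCard : Prop :=
  ∀ (K : Type) [Group K], IsCTwoListed K →
    (∃ (F : Type) (_ : Field F) (_ : Fintype F), IsFM9 (Fintype.card F) ∧
      Nonempty (K ≃* Matrix.ProjectiveSpecialLinearGroup (Fin 2) F)) ∨ Nat.card K ∈ CList

/-! ### arithmetic -/

theorem f_mono {a b : ℕ} (h : a ≤ b) : a * (a ^ 2 - 1) ≤ b * (b ^ 2 - 1) :=
  Nat.mul_le_mul h (Nat.sub_le_sub_right (Nat.pow_le_pow_left h 2) 1)

theorem f_lt {a b : ℕ} (h : a < b) (ha : 0 < a) : a * (a ^ 2 - 1) < b * (b ^ 2 - 1) := by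
  have h1 : a ^ 2 ≤ b ^ 2 := Nat.pow_le_pow_left h.le 2
  have h2 : 0 < b ^ 2 - 1 := by
    have : 2 ^ 2 ≤ b ^ 2 := Nat.pow_le_pow_left (by omega) 2
    omega
  calc a * (a ^ 2 - 1) ≤ a * (b ^ 2 - 1) := Nat.mul_le_mul_left _ (by omega)
    _ < b * (b ^ 2 - 1) := Nat.mul_lt_mul_of_pos_right h h2

theorem f_ne {n m : ℕ} (h1 : m * (m ^ 2 - 1) < n) (h2 : n < (m + 1) * ((m + 1) ^ 2 - 1)) (q : ℕ) :
    q * (q ^ 2 - 1) ≠ n := by
  intro h
  rcases Nat.lt_or_ge m q with h3 | h3
  · have := f_mono (Nat.succ_le_of_lt h3)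
    rw [h] at this
    exact absurd h2 (not_lt.2 this)
  · have := f_mono h3
    rw [h] at this
    exact absurd h1 (not_lt.2 this)

/-- the integers `m` with `m³ - m < 2 n < (m+1)³ - (m+1)` -/
def MList : List ℕ :=
  [22, 229, 204, 186, 25, 57, 96, 273, 788, 106, 464, 5577965, 445, 9643, 6633, 2025957, 43901, 50543, 2014801,
    135909026, 566177, 202547114678, 1173501297218634645]

theorem clist_check : ∀ n ∈ CList, ∃ m ∈ MList, m * (m ^ 2 - 1) < 2 * n ∧ 2 * n < (m + 1) * ((m + 1) ^ 2 - 1) := by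
  decide +kernel

theorem clist_ne {n : ℕ} (hn : n ∈ CList) (q : ℕ) : q * (q ^ 2 - 1) ≠ 2 * n := by
  obtain ⟨m, -, h1, h2⟩ := clist_check n hn
  exact f_ne h1 h2 q

/-! ### `L₂(q)` -/

section

variable {F : Type} [Field F] [Fintype F]

theorem fm9_of_iso (ho : Odd (Fintype.card F)) {F' : Type} [Field F'] [Fintype F']
    (h9 : IsFM9 (Fintype.card F')) (e : Matrix.ProjectiveSpecialLinearGroup (Fin 2) F ≃*
      Matrix.ProjectiveSpecialLinearGroup (Fin 2) F') : IsFM9 (Fintype.card F) := by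
  have h1 := ClassicalGeometry.PSL2Basic.card_PSL2_odd F ho
  have h2 := ClassicalGeometry.PSL2Basic.card_PSL2_odd F' (CTwoTab.isFM9_odd h9)
  rw [Nat.card_congr e.toEquiv, h2] at h1
  have h3 : Fintype.card F = Fintype.card F' := by
    rcases lt_trichotomy (Fintype.card F) (Fintype.card F') with h | h | h
    · exact absurd h1 (f_lt h Fintype.card_pos).ne'
    · exact h
    · exact absurd h1 (f_lt h Fintype.card_pos).ne
  rwa [h3]

theorem psl_not_chev (hCT : ChevCharTwo) (ho : Odd (Fintype.card F)) (h3 : 3 < Fintype.card F)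
    (h9 : ¬ IsFM9 (Fintype.card F)) : ¬ IsChevSimple 2 (Matrix.ProjectiveSpecialLinearGroup (Fin 2) F) := by
  intro h
  have hs := TwoFusion.SLTwoFacts.isSimpleGroup_psl (F := F) h3
  obtain ⟨t, ht, hO⟩ := QTKE.PslTwo.row_psl2 F ho h3 (fun h => h9 (Or.inl h)) (fun h => h9 (Or.inr h))
  have hb := (ResEven.Base.at_of_charTwo (hCT _ (GTwoRows.not_comm_psl h3) h) ht.1).bal
  exact hO (CTwoTab.centralizerPPrimeCore_eq_bot_iff.1 hb)

theorem psl_not_cp (hCT : ChevCharTwo) (hL : ListedCard) (ho : Odd (Fintype.card F)) (h3 : 3 < Fintype.card F)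
    (h9 : ¬ IsFM9 (Fintype.card F)) : ¬ IsCpSimple 2 (Matrix.ProjectiveSpecialLinearGroup (Fin 2) F) := by
  intro h
  have h1 := ClassicalGeometry.PSL2Basic.card_PSL2_odd F ho
  rcases h with h | ⟨n, hn, ⟨e⟩⟩ | ⟨-, h⟩ | ⟨h, -⟩ | ⟨h, -⟩ | ⟨h, -⟩ | ⟨h, -⟩
  · exact psl_not_chev hCT ho h3 h9 h
  · have hn6 : n ≤ 6 := by omega
    have h4 : Fintype.card F * (Fintype.card F ^ 2 - 1) ≤ 720 := by
      rw [← h1, Nat.card_congr e.toEquiv, mul_comm]
      have hnt : Nontrivial (Fin n) := by
        rw [← Fintype.one_lt_card_iff_nontrivial, Fintype.card_fin]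
        omega
      have h6 := two_mul_nat_card_alternatingGroup (α := Fin n)
      rw [Nat.card_perm, Nat.card_fin] at h6
      have h7 : n.factorial ≤ (6 : ℕ).factorial := Nat.factorial_le hn6
      have h8 : (6 : ℕ).factorial = 720 := by decide
      omega
    have h5 : Fintype.card F ≤ 9 := by
      by_contra hcon
      have := f_mono (show 10 ≤ Fintype.card F by omega)
      omega
    have h6 : Fintype.card F = 5 ∨ Fintype.card F = 7 ∨ Fintype.card F = 9 := by
      obtain ⟨k, hk⟩ := ho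
      omega
    apply h9
    rcases h6 with h6 | h6 | h6 <;> rw [h6]
    · exact Or.inl ⟨by norm_num, Or.inl ⟨2, by norm_num, by norm_num⟩⟩
    · exact Or.inl ⟨by norm_num, Or.inr ⟨3, by norm_num⟩⟩
    · exact Or.inr rfl
  · rcases hL _ h with ⟨F', _, _, hF, ⟨e⟩⟩ | h4
    · exact h9 (fm9_of_iso ho hF e)
    · exact clist_ne h4 _ (h1.symm.trans (mul_comm _ _))
  all_goals omega

/-- `L₂(q)` is not a `C₂`-group -/
theorem psl_not_inC (hCT : ChevCharTwo) (hL : ListedCard) (ho : Odd (Fintype.card F)) (h3 : 3 < Fintype.card F)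
    (h9 : ¬ IsFM9 (Fintype.card F)) {K : Type u} [Group K]
    (e : K ≃* Matrix.ProjectiveSpecialLinearGroup (Fin 2) F) : ¬ InC 2 K := by
  rintro ⟨-, -, h, -⟩
  have hs := TwoFusion.SLTwoFacts.isSimpleGroup_psl (F := F) h3
  have hz := CTwoTab.center_eq_bot_congr e.symm (CTwoTab.center_eq_bot_of_simple (GTwoRows.not_comm_psl h3))
  let f : K ⧸ center K ≃* Matrix.ProjectiveSpecialLinearGroup (Fin 2) F :=
    ((QuotientGroup.quotientMulEquivOfEq hz).trans QuotientGroup.quotientBot).trans e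
  exact psl_not_cp hCT hL ho h3 h9 ((CpQuot.Congr.isCpSimple_iff f 2).1 h)

/-- `SL₂(q)`, `q > 3` odd, is not a `C₂`-group -/
theorem sl_not_inC (hCT : ChevCharTwo) (hL : ListedCard) (ho : Odd (Fintype.card F)) (h3 : 3 < Fintype.card F)
    {K : Type u} [Group K] (e : K ≃* Matrix.SpecialLinearGroup (Fin 2) F) : ¬ InC 2 K := by
  rintro ⟨-, -, h, hn⟩
  by_cases h9 : IsFM9 (Fintype.card F)
  · exact hn (Or.inl ⟨rfl, Or.inl ⟨F, inferInstance, inferInstance, h9, ⟨e⟩⟩⟩)
  · exact psl_not_cp hCT hL ho h3 h9 ((CpQuot.Congr.isCpSimple_iff (CpQuot.Congr.cq e) 2).1 h)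

end

/-! ### `A_n` -/

theorem alt_not_chev (hCT : ChevCharTwo) {n : ℕ} (hn : n = 7 ∨ n = 9 ∨ n = 10 ∨ n = 11) :
    ¬ IsChevSimple 2 (alternatingGroup (Fin n)) := by
  intro h
  have h5 : 5 ≤ Nat.card (Fin n) := by rw [Nat.card_fin]; omega
  have hs : IsSimpleGroup (alternatingGroup (Fin n)) := alternatingGroup.isSimpleGroup h5
  have hz : center (alternatingGroup (Fin n)) = ⊥ := alternatingGroup.center_eq_bot (by rw [Nat.card_fin]; omega)
  have hna : ¬ IsMulCommutative (alternatingGroup (Fin n)) := by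
    intro h
    have h1 : center (alternatingGroup (Fin n)) = ⊤ := by
      rw [eq_top_iff]
      intro a _
      exact mem_center_iff.2 fun b => h.is_comm.comm b a
    rw [hz] at h1
    exact bot_ne_top h1
  have hc := hCT _ hna h
  obtain ⟨D⟩ := AltNine.exists_dat hn
  by_cases h9 : 9 ≤ n
  · exact ResEven.Base.noComp_of_charTwo hc (AltNine.order_X D) _ (isComponentOf D.mx h9)
  · have hn7 : n = 7 := by omega
    subst hn7
    have hb := CTwoTab.centralizerPPrimeCore_eq_bot_iff.1
      (ResEven.Base.at_of_charTwo hc (AltNine.order_X D)).bal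
    have hcard : Nat.card ↥(rho (AltNine.X D)).ker = 3 := by
      rw [← Nat.card_congr (kerEquiv (AltNine.X D)).toEquiv]
      have hF := card_Fx (x := AltNine.X D) D.mx (by norm_num)
      have hnt : Nontrivial (Fx (AltNine.X D)) := by
        rw [← Fintype.one_lt_card_iff_nontrivial, hF]
        norm_num
      have h6 := two_mul_nat_card_alternatingGroup (α := Fx (AltNine.X D))
      rw [Nat.card_perm, Nat.card_eq_fintype_card (α := Fx (AltNine.X D)), hF] at h6
      have h7 : (7 - 4 : ℕ).factorial = 6 := by decide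
      rw [h7] at h6
      omega
    have hle := (Cfsg.Agent.Lib.Cores.le_pPrimeCore_iff (p := 2) (MonoidHom.normal_ker (rho (AltNine.X D)))).2
      (by rw [hcard]; norm_num)
    rw [hb, le_bot_iff] at hle
    rw [hle, card_bot] at hcard
    omega

theorem alt_card {n : ℕ} (hn : 2 ≤ n) : 2 * Nat.card (alternatingGroup (Fin n)) = n.factorial := by
  have hnt : Nontrivial (Fin n) := by
    rw [← Fintype.one_lt_card_iff_nontrivial, Fintype.card_fin]
    omega
  have h6 := two_mul_nat_card_alternatingGroup (α := Fin n)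
  rwa [Nat.card_perm, Nat.card_fin] at h6

theorem alt_not_cp (hCT : ChevCharTwo) (hL : ListedCard) {n : ℕ} (hn : n = 7 ∨ n = 9 ∨ n = 10 ∨ n = 11) :
    ¬ IsCpSimple 2 (alternatingGroup (Fin n)) := by
  intro h
  rcases h with h | ⟨m, hm, ⟨e⟩⟩ | ⟨-, h⟩ | ⟨h, -⟩ | ⟨h, -⟩ | ⟨h, -⟩ | ⟨h, -⟩
  · exact alt_not_chev hCT hn h
  · have h1 := alt_card (n := n) (by omega)
    rw [Nat.card_congr e.toEquiv, alt_card (by omega)] at h1
    have h2 : m.factorial ≤ (6 : ℕ).factorial := Nat.factorial_le (by omega)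
    have h3 : (7 : ℕ).factorial ≤ n.factorial := Nat.factorial_le (by omega)
    have h4 : (6 : ℕ).factorial < (7 : ℕ).factorial := by decide
    omega
  · have h1 := alt_card (n := n) (by omega)
    rcases hL _ h with ⟨F, _, _, hF, ⟨e⟩⟩ | h4
    · have h2 := ClassicalGeometry.PSL2Basic.card_PSL2_odd F (CTwoTab.isFM9_odd hF)
      rw [← Nat.card_congr e.toEquiv, mul_comm, h1] at h2
      rcases hn with rfl | rfl | rfl | rfl
      · exact f_ne (n := (7 : ℕ).factorial) (m := 17) (by decide) (by decide) _ h2.symm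
      · exact f_ne (n := (9 : ℕ).factorial) (m := 71) (by decide) (by decide) _ h2.symm
      · exact f_ne (n := (10 : ℕ).factorial) (m := 153) (by decide) (by decide) _ h2.symm
      · exact f_ne (n := (11 : ℕ).factorial) (m := 341) (by decide) (by decide) _ h2.symm
    · have h5 : ∀ k ∈ CList, 2 * k ≠ (7 : ℕ).factorial ∧ 2 * k ≠ (9 : ℕ).factorial ∧ 2 * k ≠ (10 : ℕ).factorial ∧
          2 * k ≠ (11 : ℕ).factorial := by decide +kernel
      have h6 := h5 _ h4
      rcases hn with rfl | rfl | rfl | rfl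
      · exact h6.1 h1
      · exact h6.2.1 h1
      · exact h6.2.2.1 h1
      · exact h6.2.2.2 h1
  all_goals omega

theorem alt_not_inC (hCT : ChevCharTwo) (hL : ListedCard) {n : ℕ} (hn : n = 7 ∨ n = 9 ∨ n = 10 ∨ n = 11)
    {K : Type u} [Group K] (e : K ⧸ center K ≃* alternatingGroup (Fin n)) : ¬ InC 2 K :=
  fun h => alt_not_cp hCT hL hn ((CpQuot.Congr.isCpSimple_iff e 2).1 h.2.2.1)

theorem alt7_not_inC (hCT : ChevCharTwo) (hL : ListedCard) (K : Type) [Group K] [Finite K]
    (h : Nonempty (K ≃* alternatingGroup (Fin 7))) : ¬ InC 2 K := by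
  obtain ⟨e⟩ := h
  have hz := CTwoTab.center_eq_bot_congr e.symm (alternatingGroup.center_eq_bot (α := Fin 7) (by
    rw [Nat.card_fin]; omega))
  exact alt_not_inC hCT hL (Or.inl rfl) (((QuotientGroup.quotientMulEquivOfEq hz).trans QuotientGroup.quotientBot).trans e)

/-- **The `B₂`-groups are not `C₂`-groups.** -/
theorem bNotC (hCT : ChevCharTwo) (hL : ListedCard) : BNotC.{u} := by
  rintro K _ _ ⟨-, h⟩ hC
  rcases h with ⟨F, _, _, ho, h3, ⟨e⟩⟩ | ⟨-, hz, hF⟩ | ⟨h2, n, h7, h11, ⟨e⟩⟩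
  · exact sl_not_inC hCT hL ho h3 e hC
  · exact hC.2.2.2 (Or.inl ⟨rfl, Or.inr (Or.inr (Or.inr (Or.inr ⟨hF, hz⟩)))⟩)
  · by_cases h8 : n = 8
    · subst h8
      exact hC.2.2.2 (Or.inl ⟨rfl, Or.inr (Or.inl ⟨h2, ⟨e⟩⟩)⟩)
    · exact alt_not_inC hCT hL (by omega) e hC

end Cfsg.Agent.NotResT.NotC

end
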